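import Groth.Agent.Lib.EtStalk.Sets.Pull
import Groth.Agent.Lib.EtStalk.Push
import Groth.Agent.Lib.EtStalk.EtLift
import Mathlib.AlgebraicGeometry.Morphisms.ClosedImmersion

/-!
# Stalks of direct images of sheaves of sets along closed immersions
-/

universe u

open CategoryTheory CategoryTheory.Limits AlgebraicGeometry Opposite

namespace Groth.Agent.EtStalk.Sets

variable {X Y : Scheme.{u}}

/-- Sections over an empty etale scheme form a singleton. -/
lemma unique_of_isEmpty (F : EtDesc.Sh X) (U : X.Etale) (h : IsEmpty U.left) :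
    Nonempty (Unique (F.obj.obj (op U))) :=
  ⟨Types.isTerminalEquivUnique _ (Sheaf.isTerminalOfBotCover F U (by
    rw [EtSite.mem_et_iff]; exact fun x => (h.false x).elim))⟩

section Comparison

variable (i : X ⟶ Y) {Ω : Type u} [Field Ω] [IsSepClosed Ω] (ζ : Spec (CommRingCat.of Ω) ⟶ X)

set_option backward.isDefEq.respectTransparency.types false in
lemma liftFib_map {V W : Y.Etale} (g : V ⟶ W) (x : fib (ζ ≫ i) V) :
    liftFib i ζ ((Scheme.pointSmallEtale (ζ ≫ i)).fiber.map g x) =
      (Scheme.pointSmallEtale ζ).fiber.map ((EtCoh.bc i).map g) (liftFib i ζ x) :=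
  ((fiberIso i ζ).hom.naturality_apply g x :)

/-- The canonical map `stalk (ζ ≫ i) (i_* G) ⟶ stalk ζ G`. -/
noncomputable def pushStalk (G : EtDesc.Sh X) :
    (stalk (ζ ≫ i)).obj ((EtDesc.pushSh i).obj G) ⟶ (stalk ζ).obj G :=
  (Scheme.pointSmallEtale (ζ ≫ i)).presheafFiberDesc
    (P := ((EtDesc.pushSh i).obj G).obj) (fun V x => germ ζ G (liftFib i ζ x))
    (fun V W g x => ConcreteCategory.hom_ext _ _ fun s =>
      (germ_map ζ G ((EtCoh.bc i).map g) (liftFib i ζ x) s).trans
        (congrArg (fun z => germ ζ G z s) (liftFib_map i ζ g x).symm))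

lemma germ_pushStalk (G : EtDesc.Sh X) {V : Y.Etale} (x : fib (ζ ≫ i) V)
    (s : G.obj.obj (op ((EtCoh.bc i).obj V))) :
    pushStalk i ζ G (germ (ζ ≫ i) ((EtDesc.pushSh i).obj G) x s) = germ ζ G (liftFib i ζ x) s :=
  ConcreteCategory.congr_hom (show germ (ζ ≫ i) ((EtDesc.pushSh i).obj G) x ≫ pushStalk i ζ G =
      germ ζ G (liftFib i ζ x) from
    GrothendieckTopology.Point.toPresheafFiber_presheafFiberDesc
      (Scheme.pointSmallEtale (ζ ≫ i)) (P := ((EtDesc.pushSh i).obj G).obj)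
      (fun V x => germ ζ G (liftFib i ζ x)) _ V x) s

lemma pushStalk_nat {G G' : EtDesc.Sh X} (a : G ⟶ G') :
    (stalk (ζ ≫ i)).map ((EtDesc.pushSh i).map a) ≫ pushStalk i ζ G' =
      pushStalk i ζ G ≫ (stalk ζ).map a := by
  refine ConcreteCategory.hom_ext _ _ fun p => ?_
  obtain ⟨V, x, s, rfl⟩ := germ_surjective _ _ p
  simp only [ConcreteCategory.comp_apply]
  rw [germ_nat, germ_pushStalk]
  exact ((congrArg ((stalk ζ).map a) (germ_pushStalk i ζ G x s)).trans
    (germ_nat ζ a (liftFib i ζ x) s)).symm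

/-- The counit composed with the stalk comparison of the inverse image is the comparison of the
direct image. -/
lemma stalkPull_counit (G : EtDesc.Sh X) :
    stalkPull i ζ ((EtDesc.pushSh i).obj G) ≫ (stalk ζ).map ((EtDesc.adjSh i).counit.app G) =
      pushStalk i ζ G := by
  refine ConcreteCategory.hom_ext _ _ fun p => ?_
  obtain ⟨V, x, s, rfl⟩ := germ_surjective _ _ p
  rw [ConcreteCategory.comp_apply, germ_stalkPull, germ_nat, germ_pushStalk]
  have h := (EtDesc.adjSh i).right_triangle_components G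
  have h' := congrArg (fun t : (EtDesc.pushSh i).obj G ⟶ (EtDesc.pushSh i).obj G => t.hom.app (op V) s) h
  exact congrArg (germ ζ G (liftFib i ζ x)) h'

/-- The stalk of the unit composed with the comparison of the direct image is the comparison of
the inverse image. -/
lemma unit_pushStalk (F : EtDesc.Sh Y) :
    (stalk (ζ ≫ i)).map ((EtDesc.adjSh i).unit.app F) ≫
      pushStalk i ζ ((EtDesc.pullSh i).obj F) = stalkPull i ζ F := by
  refine ConcreteCategory.hom_ext _ _ fun p => ?_
  obtain ⟨V, x, s, rfl⟩ := germ_surjective _ _ p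
  rw [ConcreteCategory.comp_apply, germ_nat]
  exact (germ_pushStalk i ζ ((EtDesc.pullSh i).obj F) x _).trans (germ_stalkPull i ζ F x s).symm

end Comparison

section Exactness

variable (f : X ⟶ Y)

lemma stalkPull_nat {Ω : Type u} [Field Ω] [IsSepClosed Ω] (ξ : Spec (CommRingCat.of Ω) ⟶ X)
    {G G' : EtDesc.Sh Y} (a : G ⟶ G') :
    stalkPull f ξ G ≫ (stalk ξ).map ((EtDesc.pullSh f).map a) =
      (stalk (ξ ≫ f)).map a ≫ stalkPull f ξ G' := by
  refine ConcreteCategory.hom_ext _ _ fun p => ?_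
  obtain ⟨V, x, s, rfl⟩ := germ_surjective _ _ p
  simp only [ConcreteCategory.comp_apply]
  rw [germ_stalkPull, germ_nat, germ_nat, germ_stalkPull]
  exact congrArg (germ ξ _ (liftFib f ξ x))
    (congrArg (fun t : G ⟶ (EtDesc.pushSh f).obj ((EtDesc.pullSh f).obj G') => t.hom.app (op V) s)
      ((EtDesc.adjSh f).unit.naturality a)).symm

/-- Inverse image preserves monomorphisms. -/
lemma mono_pull_map {G G' : EtDesc.Sh Y} (a : G ⟶ G') [Mono a] : Mono ((EtDesc.pullSh f).map a) := by
  rw [mono_iff_stalk]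
  intro Ω _ _ ξ
  rw [← mono_iff_injective]
  have : (stalk ξ).map ((EtDesc.pullSh f).map a) =
      inv (stalkPull f ξ G) ≫ (stalk (ξ ≫ f)).map a ≫ stalkPull f ξ G' := by
    rw [IsIso.eq_inv_comp, stalkPull_nat]
  rw [this]
  have : Mono ((stalk (ξ ≫ f)).map a) := inferInstance
  exact mono_comp _ _

end Exactness

section ClosedImmersion

variable (i : X ⟶ Y) [IsClosedImmersion i]

variable {Ω : Type u} [Field Ω] [IsSepClosed Ω]

lemma bijective_pushStalk (ζ : Spec (CommRingCat.of Ω) ⟶ X) (G : EtDesc.Sh X) :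
    Function.Bijective (pushStalk i ζ G) := by
  constructor
  · intro p q hp
    obtain ⟨V, x, s, t, rfl, rfl⟩ := GrothendieckTopology.Point.toPresheafFiber_jointly_surjective₂
      (Scheme.pointSmallEtale (ζ ≫ i)) (A := Type (u + 1)) (CC := fun X => X)
      (P := ((EtDesc.pushSh i).obj G).obj) p q
    change pushStalk i ζ G (germ (ζ ≫ i) ((EtDesc.pushSh i).obj G) x s) =
      pushStalk i ζ G (germ (ζ ≫ i) ((EtDesc.pushSh i).obj G) x t) at hp
    change germ (ζ ≫ i) ((EtDesc.pushSh i).obj G) x s = germ (ζ ≫ i) ((EtDesc.pushSh i).obj G) x t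
    rw [germ_pushStalk, germ_pushStalk] at hp
    obtain ⟨U, g, φ, hφ, he⟩ := (germ_eq_iff ζ G _ s t).1 hp
    obtain ⟨V', gV, m, x', hm, hx'⟩ := exists_fib_refinement i ζ g φ
    have hx : (Scheme.pointSmallEtale (ζ ≫ i)).fiber.map gV x' = x := by
      refine ((fiberIso i ζ).app V).toEquiv.injective ?_
      change liftFib i ζ _ = liftFib i ζ x
      rw [liftFib_map, ← hm, Functor.map_comp, ConcreteCategory.comp_apply, hx', hφ]
    rw [← hx, ← germ_map, ← germ_map]
    refine congrArg _ ?_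
    change G.obj.map ((EtCoh.bc i).map gV).op s = G.obj.map ((EtCoh.bc i).map gV).op t
    rw [← hm, op_comp, G.obj.map_comp, ConcreteCategory.comp_apply, ConcreteCategory.comp_apply, he]
  · intro p
    obtain ⟨U, φ, t, rfl⟩ := germ_surjective _ _ p
    have hT : IsTerminal ((EtCoh.bc i).obj (EtCoh.top Y)) :=
      IsTerminal.isTerminalObj (EtCoh.bc i) _ (MorphismProperty.Over.mkIdTerminal _ _)
    obtain ⟨V', gV, m, x', -, hx'⟩ := exists_fib_refinement i ζ (hT.from U) φ
    exact ⟨germ (ζ ≫ i) ((EtDesc.pushSh i).obj G) x' (G.obj.map m.op t),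
      (germ_pushStalk _ _ _ _ _).trans ((germ_map _ _ _ _ _).trans (by rw [hx']))⟩

instance (ζ : Spec (CommRingCat.of Ω) ⟶ X) (G : EtDesc.Sh X) : IsIso (pushStalk i ζ G) :=
  (ConcreteCategory.isIso_iff_bijective _).2 (bijective_pushStalk i ζ G)

/-- Away from a closed subscheme the stalk of a sheaf with singleton sections there is a
singleton. -/
lemma stalk_unique_of_sections (F : EtDesc.Sh Y)
    (hF : ∀ U : Y.Etale, Disjoint (Set.range U.hom.base) (Set.range i.base) →
      Nonempty (Unique (F.obj.obj (op U))))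
    (ξ : Spec (CommRingCat.of Ω) ⟶ Y) (hξ : ξ (default : Spec (CommRingCat.of Ω)) ∉ Set.range i) :
    Nonempty (Unique ((stalk ξ).obj F)) := by
  let W₀ : Y.Etale := Scheme.Etale.mk
    (Scheme.Opens.ι ⟨_, i.isClosedEmbedding.isClosed_range.isOpen_compl⟩)
  have hd0 : Disjoint (Set.range W₀.hom.base) (Set.range i.base) := by
    rw [Set.disjoint_left]
    rintro _ ⟨q, rfl⟩
    exact q.2
  obtain ⟨y₀, -⟩ := Scheme.pointSmallEtaleFiberObjToPreimage_surjective ξ rfl W₀ ⟨⟨_, hξ⟩, rfl⟩
  obtain ⟨hW₀⟩ := hF W₀ hd0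
  refine ⟨@uniqueOfSubsingleton _ ⟨fun p q => ?_⟩ (germ ξ F y₀ hW₀.default)⟩
  obtain ⟨V, x, s, t, rfl, rfl⟩ := GrothendieckTopology.Point.toPresheafFiber_jointly_surjective₂
    (Scheme.pointSmallEtale ξ) (A := Type (u + 1)) (CC := fun X => X) (P := F.obj) p q
  change germ ξ F x s = germ ξ F x t
  let W : V.left.Opens := V.hom ⁻¹ᵁ ⟨_, i.isClosedEmbedding.isClosed_range.isOpen_compl⟩
  let x₀ : Spec (CommRingCat.of Ω) ⟶ V.left := x.left
  have hsub : Set.range x₀ ⊆ Set.range W.ι := by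
    rintro _ ⟨a, rfl⟩
    rw [Scheme.Opens.range_ι, Subsingleton.elim a (default : Spec (CommRingCat.of Ω))]
    change V.hom _ ∉ Set.range i
    have hw : x₀ ≫ V.hom = ξ := Over.w x
    rw [← Scheme.Hom.comp_apply, hw]
    exact hξ
  have hWι : IsOpenImmersion W.ι := inferInstance
  let xl : Spec (CommRingCat.of Ω) ⟶ W.toScheme := @IsOpenImmersion.lift _ _ _ W.ι x₀ hWι hsub
  have hxl : xl ≫ W.ι = x₀ := @IsOpenImmersion.lift_fac _ _ _ W.ι x₀ hWι hsub
  let y : fib ξ (EtSite.sub V W) := Over.homMk xl (by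
    exact (Category.assoc _ _ _).symm.trans ((congrArg (· ≫ V.hom) hxl).trans (Over.w x)))
  have hy : (Scheme.pointSmallEtale ξ).fiber.map (EtSite.subHom V W) y = x :=
    Over.OverMorphism.ext hxl
  rw [← hy, ← germ_map, ← germ_map]
  have hd : Disjoint (Set.range (EtSite.sub V W).hom.base) (Set.range i.base) := by
    rw [Set.disjoint_left]
    rintro _ ⟨q, rfl⟩
    exact q.2
  obtain ⟨hW⟩ := hF (EtSite.sub V W) hd
  rw [@Subsingleton.elim _ (@Unique.instSubsingleton _ hW) (F.obj.map (EtSite.subHom V W).op s)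
    (F.obj.map (EtSite.subHom V W).op t)]

lemma push_sections_unique (G : EtDesc.Sh X) (U : Y.Etale)
    (h : Disjoint (Set.range U.hom.base) (Set.range i.base)) :
    Nonempty (Unique (((EtDesc.pushSh i).obj G).obj.obj (op U))) :=
  unique_of_isEmpty G _ (isEmpty_bc_of_disjoint i h)

lemma stalk_push_unique (G : EtDesc.Sh X) (ξ : Spec (CommRingCat.of Ω) ⟶ Y)
    (hξ : ξ (default : Spec (CommRingCat.of Ω)) ∉ Set.range i) :
    Nonempty (Unique ((stalk ξ).obj ((EtDesc.pushSh i).obj G))) :=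
  stalk_unique_of_sections i _ (push_sections_unique i G) ξ hξ

end ClosedImmersion

section Adjunction

variable (i : X ⟶ Y) [IsClosedImmersion i]

instance isIso_counit : IsIso (EtDesc.adjSh i).counit := by
  rw [NatTrans.isIso_iff_isIso_app]
  intro G
  rw [isIso_iff_stalk]
  intro Ω _ _ ζ
  rw [← ConcreteCategory.isIso_iff_bijective,
    show (stalk ζ).map ((EtDesc.adjSh i).counit.app G) =
      inv (stalkPull i ζ ((EtDesc.pushSh i).obj G)) ≫ pushStalk i ζ G by
        rw [IsIso.eq_inv_comp, stalkPull_counit]]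
  infer_instance

/-- A sheaf supported on a closed subscheme is the direct image of its inverse image. -/
lemma isIso_unit_of_sections (F : EtDesc.Sh Y)
    (hF : ∀ U : Y.Etale, Disjoint (Set.range U.hom.base) (Set.range i.base) →
      Nonempty (Unique (F.obj.obj (op U)))) :
    IsIso ((EtDesc.adjSh i).unit.app F) := by
  rw [isIso_iff_stalk]
  intro Ω _ _ ξ
  by_cases h : ξ (default : Spec (CommRingCat.of Ω)) ∈ Set.range i
  · obtain ⟨ζ, rfl⟩ := exists_lift_point i ξ h
    rw [← ConcreteCategory.isIso_iff_bijective,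
      show (stalk (ζ ≫ i)).map ((EtDesc.adjSh i).unit.app F) =
        stalkPull i ζ F ≫ inv (pushStalk i ζ ((EtDesc.pullSh i).obj F)) by
          rw [IsIso.eq_comp_inv, unit_pushStalk]]
    infer_instance
  · obtain ⟨h1⟩ := stalk_unique_of_sections i F hF ξ h
    obtain ⟨h2⟩ := stalk_push_unique i ((EtDesc.pullSh i).obj F) ξ h
    exact ⟨fun a b _ => @Subsingleton.elim _ (@Unique.instSubsingleton _ h1) a b,
      fun b => ⟨h1.default, @Subsingleton.elim _ (@Unique.instSubsingleton _ h2) _ _⟩⟩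

end Adjunction

end Groth.Agent.EtStalk.Sets
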