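import Groth.Prelude.Def_SGA4b
import Groth.Agent.Lib.EtStalk.Basic
import Mathlib.CategoryTheory.Types.Epimorphisms
import Mathlib.CategoryTheory.Sites.EpiMono

/-!
# Stalks of sheaves of sets on the small etale site
-/

universe u

open CategoryTheory CategoryTheory.Limits AlgebraicGeometry Opposite

namespace Groth.Agent.EtStalk.Sets

noncomputable instance preservesFilteredColimitsForgetType :
    PreservesFilteredColimitsOfSize.{u, u} (forget (Type (u + 1))) :=
  preservesFilteredColimitsOfSize_shrink.{u, u + 1, u, u + 1} _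

noncomputable instance ab5OfSizeType : AB5OfSize.{u, u} (Type (u + 1)) :=
  AB5OfSize_shrink.{u, u, u + 1, u + 1} _

variable {X : Scheme.{u}}

section Point

variable {Ω : Type u} [Field Ω] [IsSepClosed Ω] (ξ : Spec (CommRingCat.of Ω) ⟶ X)

/-- The stalk of a sheaf of sets at a geometric point. -/
noncomputable abbrev stalk : EtDesc.Sh X ⥤ Type (u + 1) :=
  (Scheme.pointSmallEtale ξ).sheafFiber (A := Type (u + 1))

/-- The germ of a section at a geometric point of an etale `X`-scheme. -/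
noncomputable def germ (F : EtDesc.Sh X) {U : X.Etale} (x : fib ξ U) :
    F.obj.obj (op U) ⟶ (stalk ξ).obj F :=
  (Scheme.pointSmallEtale ξ).toPresheafFiber U x F.obj

lemma germ_map (F : EtDesc.Sh X) {U V : X.Etale} (g : V ⟶ U) (y : fib ξ V) (s : F.obj.obj (op U)) :
    germ ξ F y (F.obj.map g.op s) = germ ξ F ((Scheme.pointSmallEtale ξ).fiber.map g y) s :=
  GrothendieckTopology.Point.toPresheafFiber_w_apply _ g y F.obj s

lemma germ_nat {F G : EtDesc.Sh X} (a : F ⟶ G) {U : X.Etale} (x : fib ξ U) (s : F.obj.obj (op U)) :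
    (stalk ξ).map a (germ ξ F x s) = germ ξ G x (a.hom.app (op U) s) :=
  GrothendieckTopology.Point.toPresheafFiber_naturality_apply _ a.hom U x s

lemma germ_surjective (F : EtDesc.Sh X) (p : ToType ((stalk ξ).obj F)) :
    ∃ (U : X.Etale) (x : fib ξ U) (s : F.obj.obj (op U)), germ ξ F x s = p :=
  GrothendieckTopology.Point.toPresheafFiber_jointly_surjective (Scheme.pointSmallEtale ξ)
    (A := Type (u + 1)) (CC := fun X => X) (P := F.obj) p

lemma germ_eq_iff (F : EtDesc.Sh X) {U : X.Etale} (x : fib ξ U) (s t : F.obj.obj (op U)) :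
    germ ξ F x s = germ ξ F x t ↔ ∃ (V : X.Etale) (g : V ⟶ U) (y : fib ξ V),
      (Scheme.pointSmallEtale ξ).fiber.map g y = x ∧ F.obj.map g.op s = F.obj.map g.op t :=
  GrothendieckTopology.Point.toPresheafFiber_eq_iff' (Scheme.pointSmallEtale ξ) (A := Type (u + 1))
    (CC := fun X => X) (P := F.obj) U x s t

end Point

lemma mono_iff_app_injective {F G : EtDesc.Sh X} (a : F ⟶ G) :
    Mono a ↔ ∀ U, Function.Injective (a.hom.app U) := by
  constructor
  · intro h U
    have : Mono a.hom := inferInstanceAs (Mono ((sheafToPresheaf _ _).map a))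
    exact (mono_iff_injective _).1 ((NatTrans.mono_iff_mono_app a.hom).1 this U)
  · intro h
    refine (sheafToPresheaf _ _).mono_of_mono_map ?_
    exact (NatTrans.mono_iff_mono_app _).2 fun U => (mono_iff_injective _).2 (h U)

/-- Two sections with equal germs at all geometric points are equal. -/
lemma ext_germ {F : EtDesc.Sh X} {U : X.Etale} (s t : F.obj.obj (op U))
    (h : ∀ (Ω : Type u) [Field Ω] [IsSepClosed Ω] (ξ : Spec (CommRingCat.of Ω) ⟶ X) (x : fib ξ U),
      germ ξ F x s = germ ξ F x t) : s = t := by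
  have hS : Presheaf.equalizerSieve (F := F.obj) s t ∈ Scheme.smallEtaleTopology X U := by
    refine mem_of_fib U _ fun Ω _ _ ξ x => ?_
    obtain ⟨V, g, y, hy, he⟩ := (germ_eq_iff ξ F x s t).1 (h Ω ξ x)
    exact ⟨V, g, he, y, hy⟩
  exact (((isSheaf_iff_isSheaf_of_type _ _).1
    ((Presheaf.isSheaf_iff_isSheaf_forget _ F.obj (forget _)).1 F.property) _ hS).isSeparatedFor.ext
      fun V g hg => hg)

lemma mono_iff_stalk {F G : EtDesc.Sh X} (a : F ⟶ G) :
    Mono a ↔ ∀ (Ω : Type u) [Field Ω] [IsSepClosed Ω] (ξ : Spec (CommRingCat.of Ω) ⟶ X),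
      Function.Injective ((stalk ξ).map a) := by
  constructor
  · intro h Ω _ _ ξ
    exact (mono_iff_injective _).1 inferInstance
  · intro h
    rw [mono_iff_app_injective]
    intro U s t hst
    obtain ⟨U⟩ := U
    refine ext_germ s t fun Ω _ _ ξ x => h Ω ξ ?_
    rw [germ_nat, germ_nat, hst]

lemma epi_iff_stalk {F G : EtDesc.Sh X} (a : F ⟶ G) :
    Epi a ↔ ∀ (Ω : Type u) [Field Ω] [IsSepClosed Ω] (ξ : Spec (CommRingCat.of Ω) ⟶ X),
      Function.Surjective ((stalk ξ).map a) := by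
  constructor
  · intro h Ω _ _ ξ
    exact (epi_iff_surjective _).1 inferInstance
  · intro h
    rw [← Sheaf.isLocallySurjective_iff_epi']
    refine ⟨fun {U} s => mem_of_fib U _ fun Ω _ _ ξ x => ?_⟩
    obtain ⟨q, hq⟩ := h Ω ξ (germ ξ G x s)
    obtain ⟨V, y, t, rfl⟩ := germ_surjective ξ F q
    rw [germ_nat] at hq
    -- compare on a common refinement
    obtain ⟨⟨W, z⟩, ⟨gV, hgV⟩, ⟨gU, hgU⟩, -⟩ :=
      IsCofilteredOrEmpty.cone_objs (C := (Scheme.pointSmallEtale ξ).fiber.Elements) ⟨V, y⟩ ⟨U, x⟩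
    dsimp at hgV hgU
    rw [← hgV, ← germ_map, ← hgU, ← germ_map, germ_eq_iff] at hq
    obtain ⟨W', g', z', hz', he⟩ := hq
    refine ⟨W', g' ≫ gU, ⟨F.obj.map (g' ≫ gV).op t, ?_⟩, z', ?_⟩
    · rw [op_comp, F.obj.map_comp, ConcreteCategory.comp_apply]
      rw [← ConcreteCategory.comp_apply, ← ConcreteCategory.comp_apply, a.hom.naturality,
        a.hom.naturality_assoc, ConcreteCategory.comp_apply, ConcreteCategory.comp_apply]
      simpa [op_comp] using he
    · rw [← hgU, ← hz', Functor.map_comp]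
      rfl

lemma isIso_iff_stalk {F G : EtDesc.Sh X} (a : F ⟶ G) :
    IsIso a ↔ ∀ (Ω : Type u) [Field Ω] [IsSepClosed Ω] (ξ : Spec (CommRingCat.of Ω) ⟶ X),
      Function.Bijective ((stalk ξ).map a) := by
  rw [isIso_iff_mono_and_epi, mono_iff_stalk, epi_iff_stalk]
  exact ⟨fun h Ω _ _ ξ => ⟨h.1 Ω ξ, h.2 Ω ξ⟩,
    fun h => ⟨fun Ω _ _ ξ => (h Ω ξ).1, fun Ω _ _ ξ => (h Ω ξ).2⟩⟩

end Groth.Agent.EtStalk.Sets
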