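import Groth.Agent.Lib.EtStalk.Pull
import Groth.Agent.Lib.EtStalk.Sets.Basic

/-!
# Stalks of inverse images of sheaves of sets
-/

universe u

open CategoryTheory CategoryTheory.Limits AlgebraicGeometry Opposite

namespace Groth.Agent.EtStalk.Sets

variable {X Y : Scheme.{u}} (f : X ⟶ Y) {Ω : Type u} [Field Ω] [IsSepClosed Ω]
  (ξ : Spec (CommRingCat.of Ω) ⟶ X)

/-- The canonical comparison `stalk (ξ ≫ f) G ⟶ stalk ξ (f⁻¹ G)`. -/
noncomputable def stalkPull (G : EtDesc.Sh Y) :
    (stalk (ξ ≫ f)).obj G ⟶ (stalk ξ).obj ((EtDesc.pullSh f).obj G) :=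
  (GrothendieckTopology.Point.Hom.sheafFiber (A := (Type (u + 1)))
      (pointIso f ξ).hom).app G ≫
    ((Scheme.pointSmallEtale ξ).sheafFiberComapIso (EtCoh.bc f) (EtCoh.coverPreserving_bc f)
      (Type (u + 1))).hom.app G

instance (G : EtDesc.Sh Y) : IsIso (stalkPull f ξ G) := by
  have : IsIso (GrothendieckTopology.Point.Hom.sheafFiber (A := (Type (u + 1)))
      (pointIso f ξ).hom) :=
    ⟨GrothendieckTopology.Point.Hom.sheafFiber (pointIso f ξ).inv,
      by rw [← GrothendieckTopology.Point.Hom.sheafFiber_comp, Iso.inv_hom_id,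
        GrothendieckTopology.Point.Hom.sheafFiber_id],
      by rw [← GrothendieckTopology.Point.Hom.sheafFiber_comp, Iso.hom_inv_id,
        GrothendieckTopology.Point.Hom.sheafFiber_id]⟩
  dsimp only [stalkPull]
  infer_instance

/-- The comparison sends the germ of `s` to the germ of its image under the unit. -/
lemma germ_stalkPull (G : EtDesc.Sh Y) {V : Y.Etale} (x : fib (ξ ≫ f) V)
    (s : G.obj.obj (op V)) :
    stalkPull f ξ G (germ (ξ ≫ f) G x s) =
      germ ξ ((EtDesc.pullSh f).obj G) (liftFib f ξ x)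
        (((EtDesc.adjSh f).unit.app G).hom.app (op V) s) := by
  have h1 : germ (ξ ≫ f) G x ≫ stalkPull f ξ G =
      ((EtDesc.adjSh f).unit.app G).hom.app (op V) ≫
        germ ξ ((EtDesc.pullSh f).obj G) (liftFib f ξ x) := by
    dsimp only [stalkPull, germ]
    erw [← Category.assoc]
    refine (congrArg (· ≫ ((Scheme.pointSmallEtale ξ).sheafFiberComapIso (EtCoh.bc f)
      (EtCoh.coverPreserving_bc f) (Type (u + 1))).hom.app G)
      (show (Scheme.pointSmallEtale (ξ ≫ f)).toPresheafFiber V x G.obj ≫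
        (GrothendieckTopology.Point.Hom.sheafFiber (A := (Type (u + 1)))
          (pointIso f ξ).hom).app G =
      ((Scheme.pointSmallEtale ξ).comap (EtCoh.bc f) (EtCoh.coverPreserving_bc f)).toPresheafFiber
        V (liftFib f ξ x) G.obj from colimit.ι_desc _ _)).trans ?_
    have h2 := toPresheafFiber_sheafFiberComapIso_hom (Scheme.pointSmallEtale ξ) (EtCoh.bc f)
      (EtCoh.coverPreserving_bc f) (A := Type (u + 1)) G V (liftFib f ξ x)
    exact h2
  exact ConcreteCategory.congr_hom h1 s

end Groth.Agent.EtStalk.Sets
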