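import Groth.Agent.Lib.EtStalk.Sets.Push

/-!
# Stalks at the geometric points coming from a surjective morphism
-/

universe u

open CategoryTheory CategoryTheory.Limits AlgebraicGeometry Opposite

namespace Groth.Agent.EtStalk.Sets

variable {X X' : Scheme.{u}} (f : X' ⟶ X) [Surjective f]

lemma mem_of_fib_comp (U : X.Etale) (R : Sieve U)
    (h : ∀ (Ω : Type u) [Field Ω] [IsSepClosed Ω] (η : Spec (CommRingCat.of Ω) ⟶ X') (x : fib (η ≫ f) U),
      ∃ (V : X.Etale) (g : V ⟶ U) (_ : R g) (y : fib (η ≫ f) V),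
        (Scheme.pointSmallEtale (η ≫ f)).fiber.map g y = x) :
    R ∈ Scheme.smallEtaleTopology X U := by
  rw [EtSite.mem_et_iff]
  intro x
  obtain ⟨x', hx'⟩ := f.surjective (U.hom x)
  let η := geomPt X' x'
  have hη : (η ≫ f) (default : Spec (CommRingCat.of (SeparableClosure (X'.residueField x')))) = U.hom x :=
    (Scheme.Hom.comp_apply _ _ _).trans ((congrArg f (geomPt_default x')).trans hx')
  obtain ⟨φ, hφ⟩ := Scheme.pointSmallEtaleFiberObjToPreimage_surjective (η ≫ f) hη U ⟨x, rfl⟩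
  obtain ⟨V, g, hg, y, hy⟩ := h _ η φ
  refine ⟨V, g, y.left (default : Spec (CommRingCat.of (SeparableClosure (X'.residueField x')))), hg, ?_⟩
  refine Eq.trans ?_ (congrArg Subtype.val hφ)
  exact congrArg (fun t : fib (η ≫ f) U => t.left (default :
    Spec (CommRingCat.of (SeparableClosure (X'.residueField x'))))) hy

lemma ext_germ_comp {F : EtDesc.Sh X} {U : X.Etale} (s t : F.obj.obj (op U))
    (h : ∀ (Ω : Type u) [Field Ω] [IsSepClosed Ω] (η : Spec (CommRingCat.of Ω) ⟶ X') (x : fib (η ≫ f) U),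
      germ (η ≫ f) F x s = germ (η ≫ f) F x t) : s = t := by
  have hS : Presheaf.equalizerSieve (F := F.obj) s t ∈ Scheme.smallEtaleTopology X U := by
    refine mem_of_fib_comp f U _ fun Ω _ _ η x => ?_
    obtain ⟨V, g, y, hy, he⟩ := (germ_eq_iff (η ≫ f) F x s t).1 (h Ω η x)
    exact ⟨V, g, he, y, hy⟩
  exact (((isSheaf_iff_isSheaf_of_type _ _).1
    ((Presheaf.isSheaf_iff_isSheaf_forget _ F.obj (forget _)).1 F.property) _ hS).isSeparatedFor.ext
      fun V g hg => hg)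

lemma mono_of_stalk_comp {F G : EtDesc.Sh X} (a : F ⟶ G)
    (h : ∀ (Ω : Type u) [Field Ω] [IsSepClosed Ω] (η : Spec (CommRingCat.of Ω) ⟶ X'),
      Function.Injective ((stalk (η ≫ f)).map a)) : Mono a := by
  rw [mono_iff_app_injective]
  intro U s t hst
  obtain ⟨U⟩ := U
  refine ext_germ_comp f s t fun Ω _ _ η x => h Ω η ?_
  rw [germ_nat, germ_nat, hst]

lemma epi_of_stalk_comp {F G : EtDesc.Sh X} (a : F ⟶ G)
    (h : ∀ (Ω : Type u) [Field Ω] [IsSepClosed Ω] (η : Spec (CommRingCat.of Ω) ⟶ X'),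
      Function.Surjective ((stalk (η ≫ f)).map a)) : Epi a := by
  rw [← Sheaf.isLocallySurjective_iff_epi']
  refine ⟨fun {U} s => mem_of_fib_comp f U _ fun Ω _ _ η x => ?_⟩
  obtain ⟨q, hq⟩ := h Ω η (germ (η ≫ f) G x s)
  obtain ⟨V, y, t, rfl⟩ := germ_surjective (η ≫ f) F q
  rw [germ_nat] at hq
  obtain ⟨⟨W, z⟩, ⟨gV, hgV⟩, ⟨gU, hgU⟩, -⟩ :=
    IsCofilteredOrEmpty.cone_objs (C := (Scheme.pointSmallEtale (η ≫ f)).fiber.Elements) ⟨V, y⟩ ⟨U, x⟩
  dsimp at hgV hgU
  rw [← hgV, ← germ_map, ← hgU, ← germ_map, germ_eq_iff] at hq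
  obtain ⟨W', g', z', hz', he⟩ := hq
  refine ⟨W', g' ≫ gU, ⟨F.obj.map (g' ≫ gV).op t, ?_⟩, z', ?_⟩
  · rw [op_comp, F.obj.map_comp, ConcreteCategory.comp_apply]
    rw [← ConcreteCategory.comp_apply, ← ConcreteCategory.comp_apply, a.hom.naturality,
      a.hom.naturality_assoc, ConcreteCategory.comp_apply, ConcreteCategory.comp_apply]
    simpa [op_comp] using he
  · rw [← hgU, ← hz', Functor.map_comp]
    rfl

lemma faithful_pull : (EtDesc.pullSh f).Faithful := by
  refine ⟨fun {F G} a b hab => Sheaf.hom_ext (NatTrans.ext (funext fun U => ConcreteCategory.hom_ext _ _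
    fun s => ?_))⟩
  obtain ⟨U⟩ := U
  refine ext_germ_comp f _ _ fun Ω _ _ η x => ?_
  rw [← germ_nat, ← germ_nat]
  have h : (stalk (η ≫ f)).map a = (stalk (η ≫ f)).map b := by
    rw [← cancel_mono (stalkPull f η G), ← stalkPull_nat, ← stalkPull_nat, hab]
  rw [h]

lemma reflectsIsomorphisms_pull : (EtDesc.pullSh f).ReflectsIsomorphisms := by
  refine ⟨fun {F G} a _ => ?_⟩
  have hb : ∀ (Ω : Type u) [Field Ω] [IsSepClosed Ω] (η : Spec (CommRingCat.of Ω) ⟶ X'),
      Function.Bijective ((stalk (η ≫ f)).map a) := fun Ω _ _ η => by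
    rw [← ConcreteCategory.isIso_iff_bijective,
      show (stalk (η ≫ f)).map a =
        stalkPull f η F ≫ (stalk η).map ((EtDesc.pullSh f).map a) ≫ inv (stalkPull f η G) by
          rw [← Category.assoc, IsIso.eq_comp_inv, stalkPull_nat]]
    infer_instance
  have := mono_of_stalk_comp f a fun Ω _ _ η => (hb Ω η).1
  have := epi_of_stalk_comp f a fun Ω _ _ η => (hb Ω η).2
  exact isIso_of_mono_of_epi a

end Groth.Agent.EtStalk.Sets
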