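import Groth.Agent.Lib.EtStalk.Henselian
import Groth.Agent.Lib.EtStalk.Sets.Basic

/-!
# Sections of sheaves of sets over strictly henselian local rings
-/

universe u

open CategoryTheory CategoryTheory.Limits AlgebraicGeometry Opposite

namespace Groth.Agent.EtStalk.Sets

variable (R : Type u) [CommRing R] [HenselianLocalRing R]
  [IsSepClosed (IsLocalRing.ResidueField R)]

lemma bijective_germ_top (F : EtDesc.Sh (Spec (CommRingCat.of R))) :
    Function.Bijective (germ (closedPt R) F (topFib R)) := by
  constructor
  · intro s t h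
    obtain ⟨V, g, y, -, he⟩ := (germ_eq_iff _ F (topFib R) s t).1 h
    obtain ⟨σ, -⟩ := exists_section R y
    have hid : σ ≫ g = 𝟙 _ := MorphismProperty.Over.Hom.ext ((Category.comp_id _).symm.trans
      ((MorphismProperty.Over.w (σ ≫ g)).trans rfl))
    have h2 := congrArg (F.obj.map σ.op) he
    rwa [← ConcreteCategory.comp_apply, ← ConcreteCategory.comp_apply, ← F.obj.map_comp,
      ← op_comp, hid, op_id, F.obj.map_id] at h2
  · intro p
    obtain ⟨U, φ, t, rfl⟩ := germ_surjective _ F p
    obtain ⟨σ, hσ⟩ := exists_section R φ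
    exact ⟨F.obj.map σ.op t, by rw [germ_map, hσ]⟩

end Groth.Agent.EtStalk.Sets
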